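import Groth.Agent.AVTate3.Points
import Groth.Agent.Lib.AVMulN
import Groth.Agent.AVIsog3.Basic
import Groth.Prelude.Def_SGA7a

/-!
Tate modules of abelian varieties: finitely generated, free, and maps between them.
-/

set_option linter.style.haveILetI false
set_option linter.unusedSectionVars false
set_option backward.isDefEq.respectTransparency false
set_option backward.isDefEq.respectTransparency.types false

universe u

open CategoryTheory CategoryTheory.Limits MonoidalCategory CartesianMonoidalCategory MonObj GrpObj AlgebraicGeometry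

namespace Groth.Agent.AVTate3

variable {k : Type u} [Field k] {Ω : Type u} [Field Ω] [IsAlgClosed Ω] (σ : Spec (CommRingCat.of Ω) ⟶ Spec (CommRingCat.of k))
  {A : Over (Spec (CommRingCat.of k))} [GrpObj A] [IsCommMonObj A] [IsProper A.hom] [GeometricallyIntegral A.hom]

theorem finite_torsion {n : ℕ} (hn : 1 ≤ n) : Set.Finite {x : Over.mk σ ⟶ A | x ^ n = 1} := by
  haveI := AVMulN.isFinite_pow (A := A) n hn
  refine (finite_comp_eq σ (𝟙 A ^ n : A ⟶ A) 1).subset fun x (hx : x ^ n = 1) => ?_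
  show x ≫ (𝟙 A ^ n : A ⟶ A) = 1
  rw [MonObj.comp_pow, Category.comp_id, hx]

theorem exists_pow_eq {n : ℕ} (hn : 1 ≤ n) (y : Over.mk σ ⟶ A) : ∃ x : Over.mk σ ⟶ A, x ^ n = y := by
  haveI := AVMulN.surjective_pow (A := A) n hn
  haveI : IsProper (𝟙 A ^ n : A ⟶ A).left := AVIsog3.isProper_left _
  obtain ⟨x, hx⟩ := exists_comp_eq σ (𝟙 A ^ n : A ⟶ A) y
  refine ⟨x, ?_⟩
  rw [← hx, MonObj.comp_pow, Category.comp_id]

theorem finite_tateMod (l : ℕ) [Fact l.Prime] : Module.Finite ℤ_[l] (AbDual.TateMod A l (Over.mk σ)) :=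
  finite_tate (finite_torsion σ (Fact.out : l.Prime).one_le)

theorem free_tateMod (l : ℕ) [Fact l.Prime] : Module.Free ℤ_[l] (AbDual.TateMod A l (Over.mk σ)) :=
  free_tate (finite_torsion σ (Fact.out : l.Prime).one_le)

/-- A monomorphism identifies the Tate module with a saturated submodule. -/
theorem tateMap_saturated {S : Scheme.{u}} {A B T : Over S} [GrpObj A] [IsCommMonObj A] [GrpObj B] [IsCommMonObj B]
    {l : ℕ} [Fact l.Prime] (i : A ⟶ B) [IsMonHom i] [Mono i] :
    Function.Injective (AbDual.tateMapₗ (l := l) (T := T) i) ∧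
      ∀ y, (l : ℤ_[l]) • y ∈ LinearMap.range (AbDual.tateMapₗ (l := l) (T := T) i) →
        y ∈ LinearMap.range (AbDual.tateMapₗ (l := l) (T := T) i) := by
  have hcomp : ∀ (x : AbDual.TateMod A l T) n,
      ((AbDual.tateMapₗ (l := l) (T := T) i x : AbDual.TateMod B l T) : ℕ → Additive (T ⟶ B)) n =
        Additive.ofMul (((x : ℕ → Additive (T ⟶ A)) n).toMul ≫ i) := fun x n => rfl
  refine ⟨fun a b h => AbDual.TateMod.ext fun n => ?_, fun y hy => ?_⟩
  · have := congrArg (fun z : AbDual.TateMod B l T => ((z : ℕ → Additive (T ⟶ B)) n).toMul) h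
    exact Additive.toMul.injective ((cancel_mono i).1 this)
  · obtain ⟨a, ha⟩ := hy
    have hyn : ∀ n, (y : ℕ → Additive (T ⟶ B)) n = Additive.ofMul (((a : ℕ → Additive (T ⟶ A)) (n + 1)).toMul ≫ i) := by
      intro n
      have h1 := natCast_pow_smul y (n + 1) 1
      rw [pow_one, pow_one, AbDual.TateMod.compat, ← ha, hcomp] at h1
      exact h1.symm
    refine ⟨⟨fun n => (a : ℕ → Additive (T ⟶ A)) (n + 1), fun n => ?_, fun n => a.compat (n + 1)⟩,
      AbDual.TateMod.ext fun n => (hyn n).symm⟩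
    have h2 : Additive.ofMul (((l ^ n) • (a : ℕ → Additive (T ⟶ A)) (n + 1)).toMul ≫ i) = 0 := by
      rw [AbDual.nsmul_comp, ← hyn, AbDual.TateMod.torsion]
    exact Additive.toMul.injective ((cancel_mono i).1 ((congrArg Additive.toMul h2).trans (MonObj.one_comp i).symm))

end Groth.Agent.AVTate3
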