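import Groth.Prelude.Def_AbDual
import Groth.Agent.GrpSchLib.RigidHom
import Mathlib.AlgebraicGeometry.AlgClosed.Basic
import Mathlib.AlgebraicGeometry.Morphisms.Finite
import Mathlib.RingTheory.AdicCompletion.Functoriality

/-!
Fibres of maps on points over an algebraically closed field; Tate modules are finitely generated and
torsion-free as soon as the `l`-torsion is finite.
-/

set_option linter.style.haveILetI false
set_option linter.unusedSectionVars false
set_option backward.isDefEq.respectTransparency false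
set_option backward.isDefEq.respectTransparency.types false

universe u

open CategoryTheory CategoryTheory.Limits MonoidalCategory CartesianMonoidalCategory MonObj GrpObj AlgebraicGeometry

namespace Groth.Agent.AVTate3

section Points

variable {S : Scheme.{u}} {Ω : Type u} [Field Ω] [IsAlgClosed Ω] (σ : Spec (CommRingCat.of Ω) ⟶ S) {A B : Over S}
  (f : A ⟶ B) (y : Over.mk σ ⟶ B)

/-- The points over a point under a finite morphism are finitely many. -/
theorem finite_comp_eq [IsFinite f.left] : Set.Finite {x : Over.mk σ ⟶ A | x ≫ f = y} := by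
  let P := pullback f.left y.left
  let h : P ⟶ Spec (CommRingCat.of Ω) := pullback.snd f.left y.left
  haveI : IsFinite h := inferInstance
  haveI : Finite P := by
    have h1 := IsFinite.finite_preimage_singleton h (IsLocalRing.closedPoint Ω)
    refine Set.finite_univ_iff.1 (h1.subset fun p _ => ?_)
    exact @Subsingleton.elim (Spec (CommRingCat.of Ω)) inferInstance (h p) _
  let s : {x : Over.mk σ ⟶ A | x ≫ f = y} → (Spec (CommRingCat.of Ω) ⟶ P) := fun x =>
    pullback.lift x.1.left (𝟙 (Spec (CommRingCat.of Ω))) (by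
      rw [← Over.comp_left, x.2]
      exact (Category.id_comp y.left).symm)
  have hs : ∀ x, s x ≫ h = 𝟙 _ := fun x => pullback.lift_snd _ _ _
  refine Set.finite_coe_iff.1 (Finite.of_injective (fun x => s x (IsLocalRing.closedPoint Ω)) fun a b hab => ?_)
  have e := ext_of_apply_closedPoint_eq h (hs a) (hs b) hab
  refine Subtype.ext (Over.OverMorphism.ext ?_)
  have := congrArg (fun t => t ≫ pullback.fst f.left y.left) e
  simpa [s] using this

/-- Surjective morphisms of finite type are surjective on points. -/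
theorem exists_comp_eq [Surjective f.left] [LocallyOfFiniteType f.left] : ∃ x : Over.mk σ ⟶ A, x ≫ f = y := by
  let h : pullback f.left y.left ⟶ Spec (CommRingCat.of Ω) := pullback.snd f.left y.left
  haveI : JacobsonSpace ↥(pullback f.left y.left) := LocallyOfFiniteType.jacobsonSpace h
  obtain ⟨p, hp⟩ := h.surjective (IsLocalRing.closedPoint Ω)
  obtain ⟨q, -, hq⟩ := nonempty_inter_closedPoints (X := (pullback f.left y.left : Scheme.{u})) (Z := Set.univ)
    ⟨p, trivial⟩ isClosed_univ.isLocallyClosed
  let s := pointOfClosedPoint h q hq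
  have hs : s ≫ pullback.snd f.left y.left = 𝟙 _ := pointOfClosedPoint_comp h q hq
  refine ⟨Over.homMk (s ≫ pullback.fst f.left y.left) ?_, Over.OverMorphism.ext ?_⟩
  · show (s ≫ pullback.fst f.left y.left) ≫ A.hom = σ
    rw [← Over.w f, Category.assoc, pullback.condition_assoc, reassoc_of% hs, Over.w y]
    rfl
  · show (s ≫ pullback.fst f.left y.left) ≫ f.left = y.left
    rw [Category.assoc, pullback.condition, reassoc_of% hs]

end Points

section Tate

variable {S : Scheme.{u}} {A : Over S} [GrpObj A] [IsCommMonObj A] {l : ℕ} [hl : Fact l.Prime] {T : Over S}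

/-- Multiplication by powers of `l` shifts the components. -/
theorem natCast_pow_smul (x : AbDual.TateMod A l T) (n m : ℕ) :
    (((l : ℤ_[l]) ^ m • x : AbDual.TateMod A l T) : ℕ → Additive (T ⟶ A)) n =
      (l ^ m) • (x : ℕ → Additive (T ⟶ A)) n := by
  rw [← Nat.cast_pow, Nat.cast_smul_eq_nsmul]
  rfl

theorem pow_nsmul_component (x : AbDual.TateMod A l T) (n m : ℕ) :
    (l ^ m) • (x : ℕ → Additive (T ⟶ A)) (n + m) = (x : ℕ → Additive (T ⟶ A)) n := by
  induction m generalizing n with
  | zero => simp
  | succ m ih =>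
    rw [show n + (m + 1) = (n + m) + 1 from rfl, pow_succ, mul_nsmul', AbDual.TateMod.compat, ih]

/-- Elements with vanishing `m`-th component are divisible by `l ^ m`. -/
theorem exists_smul_eq_of_component (x : AbDual.TateMod A l T) (m : ℕ) (hx : (x : ℕ → Additive (T ⟶ A)) m = 0) :
    ∃ y : AbDual.TateMod A l T, (l : ℤ_[l]) ^ m • y = x := by
  refine ⟨⟨fun n => (x : ℕ → Additive (T ⟶ A)) (n + m), fun n => ?_, fun n => ?_⟩, AbDual.TateMod.ext fun n => ?_⟩
  · show (l ^ n) • (x : ℕ → Additive (T ⟶ A)) (n + m) = 0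
    rw [Nat.add_comm n m, pow_nsmul_component, hx]
  · show l • (x : ℕ → Additive (T ⟶ A)) (n + 1 + m) = _
    rw [Nat.add_right_comm, AbDual.TateMod.compat]
  · rw [natCast_pow_smul]
    exact pow_nsmul_component x n m

theorem smul_l_eq_zero (x : AbDual.TateMod A l T) (h : (l : ℤ_[l]) • x = 0) : x = 0 := by
  refine AbDual.TateMod.ext fun n => ?_
  have h' : ∀ j, l • (x : ℕ → Additive (T ⟶ A)) j = 0 := fun j => by
    have := natCast_pow_smul x j 1
    rw [pow_one, pow_one, h] at this
    exact this.symm
  rw [← x.compat n, h' (n + 1)]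
  rfl

instance isTorsionFree_tate : Module.IsTorsionFree ℤ_[l] (AbDual.TateMod A l T) := by
  refine Module.IsTorsionFree.of_smul_eq_zero fun r x hrx => ?_
  rw [or_iff_not_imp_left]
  intro hr
  have hl' : ∀ (m : ℕ) (x : AbDual.TateMod A l T), (l : ℤ_[l]) ^ m • x = 0 → x = 0 := by
    intro m
    induction m with
    | zero => intro x hx; simpa using hx
    | succ m ih =>
      intro x hx
      rw [pow_succ, mul_smul] at hx
      exact smul_l_eq_zero x (ih _ hx)
  rw [PadicInt.unitCoeff_spec hr, mul_smul] at hrx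
  exact hl' _ x ((PadicInt.unitCoeff hr).isUnit.smul_eq_zero.1 hrx)

theorem isHausdorff_tate : IsHausdorff (Ideal.span {(l : ℤ_[l])}) (AbDual.TateMod A l T) := by
  refine ⟨fun x hx => AbDual.TateMod.ext fun n => ?_⟩
  have h := SModEq.zero.1 (hx n)
  rw [Ideal.span_singleton_pow, Submodule.ideal_span_singleton_smul] at h
  obtain ⟨y, -, rfl⟩ := h
  show (((l : ℤ_[l]) ^ n • y : AbDual.TateMod A l T) : ℕ → Additive (T ⟶ A)) n = 0
  rw [natCast_pow_smul]
  exact y.torsion n

theorem isPrecomplete_pi (J : Type*) [Finite J] : IsPrecomplete (Ideal.span {(l : ℤ_[l])}) (J → ℤ_[l]) := by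
  haveI : IsAdicComplete (Ideal.span {(l : ℤ_[l])}) ℤ_[l] := by
    rw [← PadicInt.maximalIdeal_eq_span_p]; infer_instance
  refine ⟨fun f hf => ?_⟩
  have key : ∀ (n : ℕ) (x y : J → ℤ_[l]),
      x ≡ y [SMOD (Ideal.span {(l : ℤ_[l])}) ^ n • (⊤ : Submodule ℤ_[l] (J → ℤ_[l]))] ↔
        ∀ i, x i ≡ y i [SMOD (Ideal.span {(l : ℤ_[l])}) ^ n • (⊤ : Submodule ℤ_[l] ℤ_[l])] := by
    intro n x y
    simp only [SModEq.sub_mem, Ideal.span_singleton_pow, Submodule.ideal_span_singleton_smul]
    constructor
    · rintro ⟨z, -, hz⟩ i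
      exact ⟨z i, trivial, congrFun hz i⟩
    · intro h
      choose z hz hz' using h
      exact ⟨z, trivial, funext hz'⟩
  have h := fun i => IsPrecomplete.prec (I := Ideal.span {(l : ℤ_[l])}) inferInstance (f := fun n => f n i)
    fun {m n} hmn => (key m _ _).1 (hf hmn) i
  choose L hL using h
  exact ⟨L, fun n => (key n _ _).2 fun i => hL i n⟩

/-- The Tate module is finitely generated when the `l`-torsion is finite. -/
theorem finite_tate (hfin : Set.Finite {x : T ⟶ A | x ^ l = 1}) : Module.Finite ℤ_[l] (AbDual.TateMod A l T) := by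
  let c : AbDual.TateMod A l T → Additive (T ⟶ A) := fun x => (x : ℕ → Additive (T ⟶ A)) 1
  have hc : (Set.range c).Finite := by
    refine (hfin.preimage (f := Additive.toMul) Additive.toMul.injective.injOn).subset ?_
    rintro _ ⟨x, rfl⟩
    have := x.torsion 1
    rw [pow_one] at this
    exact this
  haveI : Finite (Set.range c) := hc.to_subtype
  let r : Set.range c → AbDual.TateMod A l T := fun i => i.2.choose
  have hr : ∀ i, c (r i) = i.1 := fun i => i.2.choose_spec
  letI := Fintype.ofFinite (Set.range c)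
  let F := Fintype.linearCombination ℤ_[l] r
  haveI := isHausdorff_tate (A := A) (l := l) (T := T)
  haveI := isPrecomplete_pi (l := l) (Set.range c)
  have hF : Function.Surjective F := by
    refine surjective_of_mkQ_comp_surjective (I := Ideal.span {(l : ℤ_[l])}) fun z => ?_
    obtain ⟨x, rfl⟩ := Submodule.mkQ_surjective _ z
    classical
    refine ⟨Pi.single ⟨c x, x, rfl⟩ 1, ?_⟩
    rw [LinearMap.comp_apply, Fintype.linearCombination_apply_single, one_smul, Submodule.mkQ_apply,
      Submodule.mkQ_apply, Submodule.Quotient.eq]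
    obtain ⟨y, hy⟩ := exists_smul_eq_of_component (r ⟨c x, x, rfl⟩ - x) 1 (by
      show c (r ⟨c x, x, rfl⟩) - c x = 0
      rw [hr, sub_self])
    rw [← hy, pow_one]
    exact Submodule.smul_mem_smul (Ideal.mem_span_singleton_self _) trivial
  exact Module.Finite.of_surjective F hF

theorem free_tate (hfin : Set.Finite {x : T ⟶ A | x ^ l = 1}) : Module.Free ℤ_[l] (AbDual.TateMod A l T) := by
  haveI := finite_tate hfin
  exact Module.free_of_finite_type_torsion_free'

end Tate

end Groth.Agent.AVTate3
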